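import Groth.Agent.Lib.Regularity10.Linear
import Groth.Agent.Lib.SerrePn27.HomTwist
import Groth.Agent.Lib.AssPts.Points
import Groth.Agent.Lib.NegTwist.Avoid
import Groth.Agent.Lib.Goodman.Main
import Groth.Agent.Lib.Euler.Scalar
import Groth.Agent.Lib.QCoh.DevissageSummands

/-!
The linear forms on projective space vanishing at a given point.
-/

universe u

open CategoryTheory CategoryTheory.Limits AlgebraicGeometry TopologicalSpace

set_option backward.isDefEq.respectTransparency false
set_option linter.all false
set_option maxHeartbeats 400000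

noncomputable section

namespace GrothLib.LinForms26

open GrothLib.CMReg
open GrothLib.Regularity
open GrothLib.QCoh (stalkLin)

theorem isAssPoint_iff_of_bijective {X : Scheme.{u}} {M N : X.Modules} (f : M ⟶ N) {x : X}
    (hf : Function.Bijective (stalkLin f x)) : Curv2.IsAssPoint M x ↔ Curv2.IsAssPoint N x := by
  let e := LinearEquiv.ofBijective (stalkLin f x) hf
  have h := LinearEquiv.AssociatedPrimes.eq e
  show _ ∈ associatedPrimes _ _ ↔ _ ∈ associatedPrimes _ _
  rw [h]

variable {N : ℕ} {k : Type u} [Field k]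

abbrev P (N : ℕ) (k : Type u) [Field k] : Scheme.{u} := CohB1.ProjSpace N k

/-- The map `O → O(1)` of the form with given coefficients. -/
def forms : (Fin (N + 1) → k) →ₗ[k] (Coh.structureModule (P N k) ⟶ Twist.twistProjSpace N k 1) :=
  Fintype.linearCombination k fun l : Fin (N + 1) => theta₀ (coordSect N k l)

theorem forms_single (l : Fin (N + 1)) : forms (N := N) (k := k) (Pi.single l 1) = theta₀ (coordSect N k l) := by
  rw [forms, Fintype.linearCombination_apply_single, one_smul]

theorem exists_coord (x : P N k) : ∃ l : Fin (N + 1), x ∈ (cc N k).locus (coordSect N k l) := by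
  obtain ⟨l, hl, hx⟩ := covers (n := N) (k := k) x
  exact ⟨⟨l, hl⟩, hx⟩

theorem exists_stalk_equiv (x : P N k) :
    Nonempty ((P N k).presheaf.stalk x ≃ₗ[(P N k).presheaf.stalk x] (Twist.twistProjSpace N k 1).presheaf.stalk x) := by
  obtain ⟨l, hl⟩ := exists_coord x
  exact ⟨(HomSh.unitStalk x).trans (LinearEquiv.ofBijective (stalkLin (theta₀ (coordSect N k l)) x)
    ((isoOn_theta₀ _).stalk_bijective hl))⟩

/-- The value of a form at a point. -/
def val (x : P N k) (w : Fin (N + 1) → k) : (P N k).presheaf.stalk x :=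
  (exists_stalk_equiv x).some.symm (stalkLin (forms w) x (HomSh.unitStalk x 1))

theorem stalkLin_smul {M M' : (P N k).Modules} (c : k) (f : M ⟶ M') (x : P N k) (e : M.presheaf.stalk x) :
    stalkLin (c • f) x e =
      ((P N k).presheaf.germ ⊤ x trivial).hom (Coh.toGlobal (P N k ↘ Spec (CommRingCat.of k)) c) • stalkLin f x e := by
  rw [KLin.smul_def, QCoh.stalkLin_comp]
  show stalkLin f x (stalkLin (Formal.smulModΓ M _) x e) = _
  exact (congrArg (stalkLin f x) (Euler.stalkLin_smulMod M _ x e)).trans (map_smul _ _ _)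

/-- The forms vanishing at a point. -/
def vanish (x : P N k) : Submodule k (Fin (N + 1) → k) where
  carrier := {w | val x w ∈ IsLocalRing.maximalIdeal _}
  zero_mem' := by
    have h : val x (0 : Fin (N + 1) → k) + val x 0 = val x 0 := by
      simp only [val]
      rw [← map_add, ← QCoh.stalkLin_add, ← map_add, add_zero]
    show val x 0 ∈ IsLocalRing.maximalIdeal ((P N k).presheaf.stalk x)
    rw [add_eq_left.1 h]
    exact Submodule.zero_mem _
  add_mem' := fun {v w} hv hw => by
    show val x (v + w) ∈ IsLocalRing.maximalIdeal ((P N k).presheaf.stalk x)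
    have h : val x (v + w) = val x v + val x w := by
      simp only [val]
      rw [map_add, QCoh.stalkLin_add, map_add]
    rw [h]
    exact Ideal.add_mem _ hv hw
  smul_mem' := fun c w hw => by
    show val x (c • w) ∈ IsLocalRing.maximalIdeal ((P N k).presheaf.stalk x)
    have h : val x (c • w) =
        ((P N k).presheaf.germ ⊤ x trivial).hom (Coh.toGlobal (P N k ↘ Spec (CommRingCat.of k)) c) * val x w := by
      simp only [val]
      rw [map_smul, stalkLin_smul, map_smul, smul_eq_mul]
    rw [h]
    exact Ideal.mul_mem_left _ _ hw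

theorem surjective_iff (x : P N k) (w : Fin (N + 1) → k) :
    Function.Surjective (stalkLin (forms w) x) ↔ w ∉ vanish x := by
  let φ := (exists_stalk_equiv x).some
  have hval : ∀ r, φ.symm (stalkLin (forms w) x (HomSh.unitStalk x r)) = r * val x w := fun r => by
    conv_lhs => rw [show r = r • (1 : (P N k).presheaf.stalk x) from (mul_one r).symm]
    rw [map_smul, map_smul, map_smul, smul_eq_mul]
    rfl
  have hiff : w ∉ vanish x ↔ IsUnit (val x w) := IsLocalRing.notMem_maximalIdeal
  rw [hiff]
  constructor
  · intro h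
    obtain ⟨v, hv⟩ := h (φ 1)
    obtain ⟨r, rfl⟩ := (HomSh.unitStalk x).surjective v
    have := hval r
    rw [hv, φ.symm_apply_apply] at this
    exact IsUnit.of_mul_eq_one_right r this.symm
  · intro hu t
    refine ⟨HomSh.unitStalk x (φ.symm t * ↑hu.unit⁻¹), φ.symm.injective ?_⟩
    rw [hval, mul_assoc, IsUnit.val_inv_mul, mul_one]

theorem bijective_of_notMem {x : P N k} {w : Fin (N + 1) → k} (h : w ∉ vanish x) :
    Function.Bijective (stalkLin (forms w) x) := by
  let φ := (exists_stalk_equiv x).some
  refine ⟨(injective_iff_map_eq_zero _).2 fun v hv => ?_, (surjective_iff x w).2 h⟩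
  obtain ⟨r, rfl⟩ := (HomSh.unitStalk x).surjective v
  have hu : IsUnit (val x w) := IsLocalRing.notMem_maximalIdeal.1 h
  have h0 : r * val x w = 0 := by
    have := congrArg φ.symm hv
    rw [map_zero] at this
    rw [← this]
    conv_rhs => rw [show r = r • (1 : (P N k).presheaf.stalk x) from (mul_one r).symm]
    rw [map_smul, map_smul, map_smul, smul_eq_mul]
    rfl
  rw [hu.mul_left_eq_zero.1 h0, map_zero]

theorem isClosed_vanish (w : Fin (N + 1) → k) : IsClosed {x : P N k | w ∈ vanish x} := by
  have hO : Coh.IsCoh (Coh.structureModule (P N k)) := Euler.isCoh_of_isInvertible Euler.isInvertible_structure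
  have hT : Coh.IsCoh (Twist.twistProjSpace N k 1) := Euler.isCoh_of_isInvertible (isInvertible_twist 1)
  have h : {x : P N k | w ∈ vanish x} = CohB1.support (cokernel (forms w)) := by
    ext x
    constructor
    · intro hx
      exact Goodman.mem_support_of_not_surjective (forms w) fun hs => (surjective_iff x w).1 hs hx
    · intro hx
      by_contra hns
      exact QCoh.notMem_support_cokernel_of_surjective _ ((surjective_iff x w).2 hns) hx
  rw [h]
  exact QCoh.isClosed_support_of_isCoh (QCoh.isCoh_cokernel _ hO hT)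

theorem single_notMem_vanish (l : Fin (N + 1)) {x : P N k} (hx : x ∈ (cc N k).locus (coordSect N k l)) :
    Pi.single l (1 : k) ∉ vanish x :=
  (surjective_iff x _).1 (by rw [forms_single]; exact ((isoOn_theta₀ _).stalk_bijective hx).2)

theorem vanish_ne_top (x : P N k) : vanish x ≠ ⊤ := fun h => by
  obtain ⟨l, hl⟩ := exists_coord x
  exact single_notMem_vanish l hl (h ▸ Submodule.mem_top)

theorem isAffineOpen_coord (l : Fin (N + 1)) : IsAffineOpen ((cc N k).locus (coordSect N k l)) := by
  have h := GrTilde.locus_eq_basicOpen (𝒜 := CohB1.polyGrading N k) (N := 1) exists_notMem (cc N k)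
    (Ample.ProjMap.pcocIso N k) (Ample.ProjMap.X_mem l)
  rw [coordSect, dif_pos l.2]
  exact (congrArg IsAffineOpen h).mpr (Proj.isAffineOpen_basicOpen _ _ (Ample.ProjMap.X_mem l) Nat.one_pos)

/-- A point whose vanishing forms are a hyperplane is closed. -/
theorem isClosed_of_vanish_sup_eq_top {x : P N k} {l : Fin (N + 1)}
    (h : vanish x ⊔ Submodule.span k {Pi.single l (1 : k)} = ⊤) : IsClosed ({x} : Set (P N k)) := by
  haveI : IsProper (CohB1.ProjSpace.toSpec N k) := Chow.isProper_toSpec N k
  have hsub : closure ({x} : Set (P N k)) ⊆ (cc N k).locus (coordSect N k l) := by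
    intro z hz
    have hle : vanish x ≤ vanish z := fun w hw =>
      (isClosed_vanish w).closure_subset_iff.2 (Set.singleton_subset_iff.2 hw) hz
    obtain ⟨l', hl'⟩ := exists_coord z
    by_contra hn
    have hl : Pi.single l (1 : k) ∈ vanish z := by
      by_contra hl
      refine hn ?_
      have hU : IsOpen {z : P N k | Pi.single l (1 : k) ∈ vanish z}ᶜ := (isClosed_vanish _).isOpen_compl
      have hle' := Snapper.le_genLocus (forms (N := N) (k := k) (Pi.single l 1)) ⟨_, hU⟩
        (fun y hy => bijective_of_notMem hy) (show z ∈ (⟨_, hU⟩ : (P N k).Opens) from hl)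
      rw [forms_single, theta₀] at hle'
      have hg := Ample.genLocus_comp_iso (Ample.ProjMap.pcocIso N k).symm ((cc N k).hom (coordSect N k l))
      rw [Iso.symm_hom, (cc N k).genLocus_hom] at hg
      rwa [hg] at hle'
    refine vanish_ne_top z (eq_top_iff.2 (h ▸ sup_le hle ?_))
    exact (Submodule.span_singleton_le_iff_mem _ _).2 hl
  let I := Scheme.IdealSheafData.vanishingIdeal (⟨closure ({x} : Set (P N k)), isClosed_closure⟩ : Closeds (P N k))
  let ι := I.subschemeι
  haveI : IsIntegral I.subscheme := Snapper.isIntegral_pt x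
  haveI : IsProper (ι ≫ CohB1.ProjSpace.toSpec N k) := inferInstance
  have htop : ι ⁻¹ᵁ (cc N k).locus (coordSect N k l) = ⊤ := top_le_iff.1 fun z _ =>
    hsub ((Snapper.range_pt x).le (Set.mem_range_self z))
  have hA : IsAffineOpen (⊤ : I.subscheme.Opens) := htop ▸ (isAffineOpen_coord l).preimage ι
  haveI : IsAffine ((⊤ : I.subscheme.Opens) : Scheme.{u}) := hA
  haveI : IsAffine I.subscheme := .of_isIso (Scheme.topIso _).inv
  by_contra hx
  refine Goodman.not_isAffine_of_not_isClosed k (ι ≫ CohB1.ProjSpace.toSpec N k) (fun hc => hx ?_) inferInstance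
  have hgp : ι (genericPoint I.subscheme) = x := (inseparable_iff_closure_eq.2
    ((QCoh.closure_singleton_eq_range ι).trans (Snapper.range_pt x))).eq
  have := ι.isClosedEmbedding.isClosedMap _ hc
  rwa [Set.image_singleton, hgp] at this

/-- A pencil of forms none of which vanishes at any of finitely many non-closed points. -/
theorem exists_pencil [Infinite k] {T : Set (P N k)} (hT : T.Finite) (hnc : ∀ x ∈ T, ¬ IsClosed ({x} : Set (P N k))) :
    ∃ a b : Fin (N + 1) → k, ∀ x ∈ T, a ∉ vanish x ∧ ∀ c : k, b - c • a ∉ vanish x := by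
  classical
  have h1 := Subspace.biUnion_ne_univ_of_top_notMem (s := hT.toFinset.image vanish) (by
    simp only [Finset.mem_image, not_exists, not_and]
    exact fun y _ => vanish_ne_top y)
  obtain ⟨a, ha⟩ := (Set.ne_univ_iff_exists_notMem _).1 h1
  have ha' : ∀ x ∈ T, a ∉ vanish x := fun x hx h =>
    ha (Set.mem_biUnion (Finset.mem_image_of_mem vanish (hT.mem_toFinset.2 hx)) h)
  let W : P N k → Submodule k (Fin (N + 1) → k) := fun x => vanish x ⊔ Submodule.span k {a}
  have hW : ∀ x ∈ T, W x ≠ ⊤ := fun x hx htop => by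
    obtain ⟨l, hl⟩ := exists_coord x
    refine hnc x hx (isClosed_of_vanish_sup_eq_top (l := l) ?_)
    have hmem : Pi.single l (1 : k) ∈ vanish x ⊔ Submodule.span k {a} := by
      show _ ∈ W x
      rw [htop]; trivial
    obtain ⟨v, hv, u, hu, hvu⟩ := Submodule.mem_sup.1 hmem
    obtain ⟨c, rfl⟩ := Submodule.mem_span_singleton.1 hu
    have hc : c ≠ 0 := fun h0 => single_notMem_vanish l hl (by rw [← hvu, h0, zero_smul, add_zero]; exact hv)
    rw [eq_top_iff, ← htop]
    refine sup_le le_sup_left ((Submodule.span_singleton_le_iff_mem _ _).2 ?_)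
    have : a = c⁻¹ • Pi.single l (1 : k) + (-c⁻¹) • v := by
      rw [← hvu, smul_add, smul_smul, inv_mul_cancel₀ hc, one_smul, neg_smul]
      abel
    rw [this]
    exact Submodule.add_mem _ (Submodule.smul_mem _ _ (Submodule.mem_sup_right (Submodule.mem_span_singleton_self _)))
      (Submodule.smul_mem _ _ (Submodule.mem_sup_left hv))
  have h2 := Subspace.biUnion_ne_univ_of_top_notMem (s := hT.toFinset.image W) (by
    simp only [Finset.mem_image, not_exists, not_and]
    exact fun y hy => hW y (hT.mem_toFinset.1 hy))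
  obtain ⟨b, hb⟩ := (Set.ne_univ_iff_exists_notMem _).1 h2
  refine ⟨a, b, fun x hx => ⟨ha' x hx, fun c h => hb (Set.mem_biUnion (Finset.mem_image_of_mem W (hT.mem_toFinset.2 hx)) ?_)⟩⟩
  show b ∈ vanish x ⊔ Submodule.span k {a}
  have := Submodule.add_mem_sup h (Submodule.smul_mem _ c (Submodule.mem_span_singleton_self a))
  rwa [sub_add_cancel] at this

end GrothLib.LinForms26
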