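import Groth.Agent.Lib.LinForms26.Forms
import Groth.Agent.Lib.NegTwist.H0
import Groth.Agent.Lib.Euler.Basic
import Groth.Agent.Lib.SerrePn27.Generic

/-!
Sections of negative twists drop when no associated point is closed.
-/

universe u

open CategoryTheory CategoryTheory.Limits AlgebraicGeometry TopologicalSpace

set_option backward.isDefEq.respectTransparency false
set_option linter.all false
set_option maxHeartbeats 400000

noncomputable section

namespace GrothLib.LinForms26

open GrothLib.CMReg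
open GrothLib.Regularity
open GrothLib.QCoh (stalkLin)
open GrothLib.Cohom (hhMap)

section Aux

variable {X : Scheme.{u}}

theorem nonempty_untwist_aux (F A B : X.Modules) (e : CohB1.tensorMod A B ≅ Coh.structureModule X) :
    Nonempty (CohB1.tensorMod B (CohB1.tensorMod F A) ≅ F) :=
  ⟨GrTilde.tensorModComm _ _ ≪≫ OX.tensorAssoc F A B ≪≫
    Ample.LineData.tensorModMapIso (Iso.refl F) e ≪≫ GrTilde.tensorModComm _ _ ≪≫ OX.tensorUnitLeftIso F⟩

variable {k : Type u} [Field k] [X.Over (Spec (CommRingCat.of k))] {V : Type*} [AddCommGroup V] [Module k V]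

/-- Multiplication by a linear family of sections of `B`. -/
def multAux (G F B : X.Modules) (v : CohB1.tensorMod B G ≅ F)
    (φ : V →ₗ[k] (Coh.structureModule X ⟶ B)) : V →ₗ[k] (G ⟶ F) :=
  haveI : (Euler.tF G).Linear k := SerrePn27.linear_tF G
  (Linear.leftComp k F (OX.tensorUnitLeftIso G).inv).comp
    ((Linear.rightComp k ((Euler.tF G).obj (Coh.structureModule X)) v.hom).comp
      (((Euler.tF G).mapLinearMap k).comp φ))

theorem isoOn_multAux (G F B : X.Modules) (v : CohB1.tensorMod B G ≅ F)
    (φ : V →ₗ[k] (Coh.structureModule X ⟶ B)) (w : V) {U : X.Opens} (hU : Kodaira.IsoOn U (φ w)) :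
    Kodaira.IsoOn U (multAux G F B v φ w) :=
  (Kodaira.isoOn_of_iso U (OX.tensorUnitLeftIso G).inv).comp
    ((hU.tensor_right G).comp (Kodaira.isoOn_of_iso U v.hom))

include k in
theorem finrank_zero_iso {A B : X.Modules} (e : A ≅ B) (h : Subsingleton (Coh.HH X B 0)) :
    Subsingleton (Coh.HH X A 0) :=
  (Euler.hhEquiv (A := k) e 0).toEquiv.subsingleton

end Aux

variable {N : ℕ} {k : Type u} [Field k]

theorem isWeakAssPoint_twist {F : (P N k).Modules} (hF : Coh.IsCoh F) (x : P N k) :
    Curv2.IsWeakAssPoint (Ft F (-1)) x → Curv2.IsWeakAssPoint F x := by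
  haveI := hF.1
  haveI := (isCoh_Ft hF (-1)).1
  intro h
  obtain ⟨l, hl⟩ := exists_coord x
  have h1 := isAssPoint_iff_of_bijective (mulLin (coordSect N k l) F) (x := x)
    (bijective_mulLin _ F hl)
  rw [← WeakAss.isAssPoint_iff_isWeakAssPoint] at h ⊢
  exact h1.1 h

theorem nonempty_untwist (F : (P N k).Modules) :
    Nonempty (CohB1.tensorMod (Twist.twistProjSpace N k 1) (Ft F (-1)) ≅ F) := by
  obtain ⟨e⟩ := nonempty_twist_add (n := N) (k := k) (a := -1) (b := 1) (c := 0) (neg_add_cancel 1)
  obtain ⟨e0⟩ := nonempty_twist_zero (n := N) (k := k)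
  exact nonempty_untwist_aux (X := P N k) F (Twist.twistProjSpace N k (-1)) (Twist.twistProjSpace N k 1) (e ≪≫ e0)

/-- Multiplication by the forms, `F(-1) → F`. -/
def mult (F : (P N k).Modules) : (Fin (N + 1) → k) →ₗ[k] (Ft F (-1) ⟶ F) :=
  multAux (X := P N k) (Ft F (-1)) F (Twist.twistProjSpace N k 1) (nonempty_untwist F).some forms

theorem mono_mult {F : (P N k).Modules} (hF : Coh.IsCoh F) (w : Fin (N + 1) → k)
    (hw : ∀ x, Curv2.IsWeakAssPoint F x → w ∉ vanish x) : Mono (mult F w) := by
  haveI := (isCoh_Ft hF (-1)).1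
  refine mono_of_stalk_injective_weakAss _ fun x hx => ?_
  have hxw := hw x (isWeakAssPoint_twist hF x hx)
  have hgl : x ∈ CohB1.genLocus _ (forms (N := N) (k := k) w) :=
    Snapper.le_genLocus (forms w) ⟨{y | w ∈ vanish y}ᶜ, (isClosed_vanish w).isOpen_compl⟩
      (fun y hy => bijective_of_notMem hy) hxw
  obtain ⟨U, hxU, hU⟩ := Kodaira.exists_isoOn_of_mem_genLocus (forms (N := N) (k := k) w) hgl
  have h : Kodaira.IsoOn U (mult F w) := isoOn_multAux _ F _ _ forms w hU
  exact (h.stalk_bijective hxU).1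

theorem finiteDimensional {F : (P N k).Modules} (hF : Coh.IsCoh F) (i : ℕ) :
    FiniteDimensional k (Coh.HH (P N k) F i) := by
  haveI := Chow.isProper_toSpec N k
  haveI : IsProper (P N k ↘ Spec (CommRingCat.of k)) := inferInstanceAs (IsProper (CohB1.ProjSpace.toSpec N k))
  exact Euler.finiteDimensional_HH k hF i

variable [IsAlgClosed k]

/-- Twisting down loses a section. -/
theorem finrank_twist_lt {F : (P N k).Modules} (hF : Coh.IsCoh F)
    (hass : ∀ x : P N k, Curv2.IsAssPoint F x → ¬ IsClosed ({x} : Set (P N k))) :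
    Module.finrank k (Coh.HH (P N k) (Ft F (-1)) 0) ≤ Module.finrank k (Coh.HH (P N k) F 0) ∧
      (1 ≤ Module.finrank k (Coh.HH (P N k) F 0) →
        Module.finrank k (Coh.HH (P N k) (Ft F (-1)) 0) + 1 ≤ Module.finrank k (Coh.HH (P N k) F 0)) := by
  haveI := hF.1
  haveI := finiteDimensional hF 0
  haveI := finiteDimensional (isCoh_Ft hF (-1)) 0
  haveI : IsNoetherian (P N k) := CMReg.isNoetherian_projSpace
  have hfin := NegTwist.finite_weakAss hF
  obtain ⟨a, b, hab⟩ := exists_pencil hfin fun x hx =>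
    hass x ((WeakAss.isAssPoint_iff_isWeakAssPoint x).2 hx)
  let A := hhMap k (mult F a) 0
  let B := hhMap k (mult F b) 0
  have hA : Function.Injective A := by
    haveI := mono_mult hF a fun x hx => (hab x hx).1
    exact NegTwist.injective_hhMap_zero k (mult F a)
  have hle := LinearMap.finrank_le_finrank_of_injective hA
  refine ⟨hle, fun h1 => ?_⟩
  by_contra hlt
  have heq : Module.finrank k (Coh.HH (P N k) (Ft F (-1)) 0) = Module.finrank k (Coh.HH (P N k) F 0) :=
    le_antisymm hle (Nat.lt_succ_iff.1 (not_le.1 hlt))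
  have hbij : Function.Bijective A := ⟨hA, (LinearMap.injective_iff_surjective_of_finrank_eq_finrank heq).1 hA⟩
  let E := LinearEquiv.ofBijective A hbij
  haveI : Nontrivial (Coh.HH (P N k) (Ft F (-1)) 0) := Module.nontrivial_of_finrank_pos (R := k) (lt_of_lt_of_le Nat.one_pos (h1.trans heq.ge))
  obtain ⟨c, hc⟩ := Module.End.exists_eigenvalue (E.symm.toLinearMap.comp B)
  obtain ⟨v, hv⟩ := hc.exists_hasEigenvector
  haveI := mono_mult hF (b - c • a) fun x hx => (hab x hx).2 c
  have h0 : hhMap k (mult F (b - c • a)) 0 v = 0 := by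
    have e : mult F b = mult F (b - c • a) + c • mult F a := by
      rw [map_sub, map_smul, sub_add_cancel]
    have h2 : B v = hhMap k (mult F (b - c • a)) 0 v + c • A v := by
      show hhMap k (mult F b) 0 v = _
      rw [e, SerrePn27.hhMap_add, SerrePn27.hhMap_smul]
      rfl
    have h3 : E.symm (B v) = c • v := hv.apply_eq_smul
    have h4 : B v = c • A v := by
      rw [← E.apply_symm_apply (B v), h3, map_smul]
      rfl
    rw [h4] at h2
    exact right_eq_add.1 h2 |>.symm ▸ rfl
  exact hv.2 (NegTwist.injective_hhMap_zero k (mult F (b - c • a)) (h0.trans (map_zero _).symm))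

theorem isAssPoint_twist {F : (P N k).Modules} (hF : Coh.IsCoh F) (x : P N k)
    (h : Curv2.IsAssPoint (Ft F (-1)) x) : Curv2.IsAssPoint F x := by
  obtain ⟨l, hl⟩ := exists_coord x
  exact (isAssPoint_iff_of_bijective (mulLin (coordSect N k l) F) (x := x) (bijective_mulLin _ F hl)).1 h

/-- Far negative twists have no sections. -/
theorem subsingleton_twist : ∀ (n : ℕ) (F : (P N k).Modules), Coh.IsCoh F →
    (∀ x : P N k, Curv2.IsAssPoint F x → ¬ IsClosed ({x} : Set (P N k))) →
    Module.finrank k (Coh.HH (P N k) F 0) ≤ n → Subsingleton (Coh.HH (P N k) (Ft F (-(n : ℤ))) 0) := by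
  intro n
  induction n with
  | zero =>
    intro F hF _ h
    haveI := finiteDimensional hF 0
    haveI : Subsingleton (Coh.HH (P N k) F 0) := Module.finrank_zero_iff.1 (Nat.le_zero.1 h)
    obtain ⟨e0⟩ := nonempty_twist_zero (n := N) (k := k)
    refine finrank_zero_iso (k := k) (B := F) ?_ inferInstance
    exact GrTilde.tensorModComm F _ ≪≫ Ample.LineData.tensorModMapIso e0 (Iso.refl F) ≪≫ OX.tensorUnitLeftIso F
  | succ n ih =>
    intro F hF hass h
    obtain ⟨h1, h2⟩ := finrank_twist_lt hF hass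
    have hsub := ih (Ft F (-1)) (isCoh_Ft hF (-1)) (fun x hx => hass x (isAssPoint_twist hF x hx)) (by
      rcases Nat.eq_zero_or_pos (Module.finrank k (Coh.HH (P N k) F 0)) with h0 | h0
      · omega
      · have := h2 h0; omega)
    obtain ⟨e⟩ := nonempty_twist_add (n := N) (k := k) (a := -1) (b := -(n : ℤ)) (c := -((n + 1 : ℕ) : ℤ))
      (by push_cast; ring)
    exact finrank_zero_iso (k := k) (Ample.LineData.tensorModMapIso (Iso.refl F) e.symm ≪≫
      (OX.tensorAssoc F (Twist.twistProjSpace N k (-1)) (Twist.twistProjSpace N k (-(n : ℤ)))).symm) hsub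

end GrothLib.LinForms26
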